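import Cfsg.Agent.Fusion.Control

/-!
# Finite groups in which every non-abelian subgroup is self-normalizing

For a non-abelian simple group with this property all Sylow subgroups are abelian and all
centralisers of non-identity elements are abelian.
-/

set_option autoImplicit false
set_option linter.style.haveILetI false
set_option linter.unusedSectionVars false

namespace Cfsg.Agent.NonabSelfNorm

open Subgroup

/-- Every non-abelian subgroup is its own normalizer. -/
def SN (G : Type*) [Group G] : Prop :=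
  ∀ H : Subgroup G, ¬ IsMulCommutative H → normalizer (H : Set G) = H

variable {G : Type*} [Group G]

theorem isComm_iff {H : Subgroup G} :
    IsMulCommutative H ↔ ∀ a ∈ H, ∀ b ∈ H, a * b = b * a :=
  ⟨fun h a ha b hb => congrArg Subtype.val (h.is_comm.comm ⟨a, ha⟩ ⟨b, hb⟩),
    fun h => ⟨⟨fun a b => Subtype.ext (h a a.2 b b.2)⟩⟩⟩

theorem isComm_mono {H K : Subgroup G} (h : H ≤ K) (hK : IsMulCommutative K) : IsMulCommutative H :=
  isComm_iff.2 fun a ha b hb => isComm_iff.1 hK a (h ha) b (h hb)

variable [Finite G] (hsn : SN G)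
include hsn

/-- A subgroup normal in a larger subgroup is abelian. -/
theorem isComm_of_le_normalizer {H M : Subgroup G} (hHM : H < M)
    (hM : M ≤ normalizer (H : Set G)) : IsMulCommutative H := by
  by_contra h
  rw [hsn H h] at hM
  exact hHM.ne (le_antisymm hHM.le hM)

variable {p : ℕ} [Fact p.Prime]

/-- No `p`-regular element acts non-trivially on a `p`-subgroup, if `p` has a non-abelian Sylow
subgroup. -/
theorem centralizes (hP : ∀ P : Sylow p G, ¬ IsMulCommutative (P : Subgroup G))
    (U : Subgroup G) (hU : IsPGroup p U) (y : G) (hy : y ∈ normalizer (U : Set G))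
    (hyo : Nat.Coprime (orderOf y) p) : y ∈ centralizer (U : Set G) := by
  induction hn : Nat.card G - Nat.card U using Nat.strong_induction_on generalizing U y with
  | _ n IH =>
  by_contra hyc
  have bigger : ∀ V : Subgroup G, IsPGroup p V → U < V → ∀ g ∈ normalizer (V : Set G),
      Nat.Coprime (orderOf g) p → g ∈ centralizer (V : Set G) := by
    intro V hV hUV g hg hgo
    have h1 : Nat.card U < Nat.card V := by
      rcases Nat.lt_or_ge (Nat.card U) (Nat.card V) with h | h
      · exact h
      · exact absurd (Subgroup.eq_of_le_of_card_ge hUV.le h) hUV.ne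
    have h2 : Nat.card V ≤ Nat.card G := Subgroup.card_le_card_group V
    exact IH (Nat.card G - Nat.card V) (by omega) V hV g hg hgo rfl
  have hy1 : y ≠ 1 := fun e => hyc (e ▸ one_mem _)
  -- `U` is abelian
  have hUc : IsMulCommutative U := by
    by_contra h
    rw [hsn U h] at hy
    obtain ⟨k, hk⟩ := IsPGroup.iff_orderOf.1 hU ⟨y, hy⟩
    rw [← Subgroup.orderOf_coe] at hk
    rw [hk] at hyo
    rcases Nat.eq_zero_or_pos k with h0 | h0
    · rw [h0, pow_zero] at hk; exact hy1 (orderOf_eq_one_iff.1 hk)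
    · rw [Nat.coprime_pow_left_iff h0, Nat.coprime_self] at hyo
      exact (Fact.out : p.Prime).ne_one hyo
  set M := normalizer (U : Set G) with hM
  have hUM : U ≤ M := le_normalizer
  have hMc : ¬ IsMulCommutative M := fun h =>
    hyc (mem_centralizer_iff.2 fun u hu => isComm_iff.1 h u (hUM hu) y hy)
  obtain ⟨Q, hQ⟩ := (hU.of_equiv (subgroupOfEquivOfLe hUM).symm).exists_le_sylow (G := M)
  set Pm : Subgroup G := (Q : Subgroup M).map M.subtype with hPm
  have hPmp : IsPGroup p Pm := Q.2.map _
  have hUPm : U ≤ Pm := fun u hu => ⟨⟨u, hUM hu⟩, hQ hu, rfl⟩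
  have hPmM : Pm ≤ M := map_subtype_le _
  have hmax : ∀ R : Subgroup G, IsPGroup p R → R ≤ M → Pm ≤ R → R = Pm := by
    intro R hR hRM hle
    have h1 : R.subgroupOf M = (Q : Subgroup M) :=
      Q.3 (hR.of_equiv (subgroupOfEquivOfLe hRM).symm) fun q hq => hle ⟨q, hq, rfl⟩
    rw [hPm, ← h1, subgroupOf_map_subtype, inf_eq_left.2 hRM]
  -- the `p`-elements of `M` normalizing `Pm` lie in it
  have hpel : ∀ g ∈ M, g ∈ normalizer (Pm : Set G) → (∃ k, orderOf g = p ^ k) → g ∈ Pm := by
    rintro g hgM hgN ⟨k, hk⟩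
    have hZ : IsPGroup p (zpowers g) := IsPGroup.of_card (n := k) (by rw [Nat.card_zpowers, hk])
    have hsup : IsPGroup p (zpowers g ⊔ Pm : Subgroup G) :=
      hZ.to_sup_of_normal_right' hPmp (by rw [zpowers_le]; exact hgN)
    have := hmax _ hsup (sup_le (zpowers_le.2 hgM) hPmM) le_sup_right
    exact this ▸ le_sup_left (a := zpowers g) (mem_zpowers g)
  -- `U` is not a Sylow subgroup of `M`
  have hlt : U < Pm := by
    refine lt_of_le_of_ne hUPm fun e => ?_
    obtain ⟨P, hPle⟩ := hU.exists_le_sylow
    refine hP P (?_ : IsMulCommutative (P : Subgroup G))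
    rcases eq_or_ne (U : Subgroup G) (P : Subgroup G) with h | h
    · exact h ▸ hUc
    exfalso
    haveI : Group.IsNilpotent (P : Subgroup G) := P.2.isNilpotent
    have hlt' : U.subgroupOf (P : Subgroup G) < normalizer ((U.subgroupOf (P : Subgroup G) : Subgroup P) : Set P) := by
      refine Group.normalizerCondition_of_isNilpotent _ (lt_top_iff_ne_top.2 fun ht => h ?_)
      exact le_antisymm hPle (subgroupOf_eq_top.1 ht)
    obtain ⟨g, hg, hgU⟩ := SetLike.exists_of_lt hlt'
    have hgM : (g : G) ∈ M := by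
      rw [hM, mem_normalizer_iff]
      intro u
      refine ⟨fun hu => ?_, fun hu => ?_⟩
      · exact (mem_normalizer_iff.1 hg ⟨u, hPle hu⟩).1 hu
      · have hu' : u ∈ (P : Subgroup G) := by
          have := mul_mem (mul_mem (inv_mem g.2) (hPle hu)) g.2
          have e : (g : G)⁻¹ * ((g : G) * u * (g : G)⁻¹) * (g : G) = u := by simp [mul_assoc]
          exact e ▸ this
        exact (mem_normalizer_iff.1 hg ⟨u, hu'⟩).2 hu
    refine hgU ?_
    obtain ⟨k, hk⟩ := IsPGroup.iff_orderOf.1 P.2 g
    rw [← Subgroup.orderOf_coe] at hk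
    have := hpel (g : G) hgM (e ▸ hgM) ⟨k, hk⟩
    rw [← e] at this
    exact this
  have hPmbig := bigger Pm hPmp hlt
  by_cases hPmc : IsMulCommutative Pm
  · -- then the normalizer of `Pm` in `M` centralizes `Pm` and `M` is `p`-nilpotent
    have hN : normalizer (((Q : Subgroup M) : Subgroup M) : Set M) ≤
        centralizer (((Q : Subgroup M) : Subgroup M) : Set M) := by
      intro n hn
      have hnN : (n : G) ∈ normalizer (Pm : Set G) :=
        (Subgroup.le_normalizer_map M.subtype) ⟨n, hn, rfl⟩
      obtain ⟨a, m, hm, hnm⟩ := Nat.exists_eq_pow_mul_and_not_dvd (orderOf_pos (n : G)).ne' p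
        (Fact.out : p.Prime).ne_one
      have hpm : (p ^ a).Coprime m :=
        ((Nat.Prime.coprime_iff_not_dvd Fact.out).2 hm).pow_left a
      have h1 : (n : G) ^ m ∈ centralizer (Pm : Set G) := by
        refine mem_centralizer_iff.2 fun u hu => isComm_iff.1 hPmc u hu _ ?_
        refine hpel _ (pow_mem n.2 m) (pow_mem hnN m) ?_
        refine ⟨a, ?_⟩
        rw [orderOf_pow' _ (fun e : m = 0 => hm (by rw [e]; exact dvd_zero p)), hnm, Nat.gcd_eq_right (dvd_mul_left m (p ^ a)),
          Nat.mul_div_cancel _ (Nat.pos_of_ne_zero fun e : m = 0 => hm (by rw [e]; exact dvd_zero p))]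
      have h2 : (n : G) ^ (p ^ a) ∈ centralizer (Pm : Set G) := by
        refine hPmbig _ (pow_mem hnN _) ?_
        rw [orderOf_pow' _ (pow_ne_zero a (Fact.out : p.Prime).ne_zero), hnm,
          Nat.gcd_eq_right (dvd_mul_right _ m),
          Nat.mul_div_cancel_left _ (pow_pos (Fact.out : p.Prime).pos a)]
        exact ((Nat.Prime.coprime_iff_not_dvd Fact.out).2 hm).symm
      have h3 : (n : G) ∈ centralizer (Pm : Set G) := by
        have hz : ((n : G) ^ (p ^ a)) ^ (Nat.gcdA (p ^ a) m) * ((n : G) ^ m) ^ (Nat.gcdB (p ^ a) m) = n := by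
          rw [← zpow_natCast, ← zpow_natCast, ← zpow_mul, ← zpow_mul, ← zpow_add, ← Nat.gcd_eq_gcd_ab,
            hpm.gcd_eq_one, Nat.cast_one, zpow_one]
        rw [← hz]
        exact mul_mem (zpow_mem h2 _) (zpow_mem h1 _)
      refine mem_centralizer_iff.2 fun u hu => Subtype.ext ?_
      exact mem_centralizer_iff.1 h3 u ⟨u, hu, rfl⟩
    set K := (MonoidHom.transferSylow Q hN).ker
    have hcomp : K.IsComplement' (Q : Subgroup M) := MonoidHom.ker_transferSylow_isComplement' Q hN
    have hdisj := MonoidHom.ker_transferSylow_disjoint Q hN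
    -- `y` lies in the complement
    have hyK : (⟨y, hy⟩ : M) ∈ K := by
      rw [MonoidHom.mem_ker, ← orderOf_eq_one_iff]
      refine Nat.eq_one_of_dvd_coprimes hyo.symm ?_ ?_ |> fun h => h
      · obtain ⟨k, hk⟩ := IsPGroup.iff_orderOf.1 Q.2 (MonoidHom.transferSylow Q hN ⟨y, hy⟩)
        rcases Nat.eq_zero_or_pos k with h0 | h0
        · rw [hk, h0, pow_zero]; exact one_dvd _
        · exfalso
          have hdvd := orderOf_map_dvd (MonoidHom.transferSylow Q hN) (⟨y, hy⟩ : M)
          rw [hk, Subgroup.orderOf_mk] at hdvd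
          have h1 : p ∣ orderOf y := (dvd_pow_self p h0.ne').trans hdvd
          exact (Nat.Prime.coprime_iff_not_dvd Fact.out).1 hyo.symm h1
      · have hdvd := orderOf_map_dvd (MonoidHom.transferSylow Q hN) (⟨y, hy⟩ : M)
        exact hdvd.trans (dvd_of_eq (Subgroup.orderOf_mk y hy))
    refine hyc (mem_centralizer_iff.2 fun u hu => ?_)
    have hUn : (U.subgroupOf M).Normal := Subgroup.normal_subgroupOf_of_le_normalizer le_rfl
    have hKn : K.Normal := MonoidHom.normal_ker _
    have hd : Disjoint K (U.subgroupOf M) :=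
      (hdisj _ ((hU.of_equiv (subgroupOfEquivOfLe hUM).symm))).mono le_rfl le_rfl
    have := Subgroup.commute_of_normal_of_disjoint K (U.subgroupOf M) hKn hUn hd ⟨y, hy⟩
      ⟨u, hUM hu⟩ hyK hu
    exact (congrArg Subtype.val this.eq).symm
  · -- then `Pm` is self-normalizing
    have hPN : normalizer (Pm : Set G) = Pm := hsn Pm hPmc
    set C := centralizer (U : Set G) with hC
    have hCM : C < M := lt_of_le_of_ne (centralizer_le_normalizer _) fun e => hyc (e ▸ hy)
    have hMC : M ≤ normalizer (C : Set G) := by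
      intro g hg
      rw [mem_normalizer_iff]
      intro c
      have key : ∀ g ∈ M, ∀ c ∈ C, g * c * g⁻¹ ∈ C := by
        intro g hg c hc
        refine mem_centralizer_iff.2 fun u hu => ?_
        have hu' : g⁻¹ * u * g ∈ U := by
          have := (mem_normalizer_iff''.1 hg u).1 hu
          exact this
        have := mem_centralizer_iff.1 hc _ hu'
        calc u * (g * c * g⁻¹) = g * ((g⁻¹ * u * g) * c) * g⁻¹ := by group
          _ = g * (c * (g⁻¹ * u * g)) * g⁻¹ := by rw [this]
          _ = g * c * g⁻¹ * u := by group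
      refine ⟨key g hg c, fun h => ?_⟩
      have := key g⁻¹ (inv_mem hg) _ h
      simpa [mul_assoc] using this
    have hCc : IsMulCommutative C := isComm_of_le_normalizer hsn hCM hMC
    have hUC : U ≤ C := le_centralizer_iff_isMulCommutative.2 hUc
    set A := C ⊓ Pm with hA
    -- `A` is normalized by `M`, hence equals `U`
    have hAp : IsPGroup p A := hPmp.to_le inf_le_right
    have hpC : ∀ c ∈ C, (∃ k, orderOf c = p ^ k) → c ∈ Pm := by
      intro c hcC hc
      obtain ⟨k, hk⟩ := hc
      have hZ : IsPGroup p (zpowers c) := IsPGroup.of_card (n := k) (by rw [Nat.card_zpowers, hk])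
      -- the `p`-elements of the abelian normal subgroup `C` form a normal `p`-subgroup
      let Cp : Subgroup G :=
        { carrier := {x | x ∈ C ∧ ∃ j, x ^ p ^ j = 1}
          one_mem' := ⟨one_mem _, 0, one_pow _⟩
          mul_mem' := by
            rintro a b ⟨ha, i, hi⟩ ⟨hb, j, hj⟩
            refine ⟨mul_mem ha hb, i + j, ?_⟩
            rw [Commute.mul_pow (isComm_iff.1 hCc a ha b hb), pow_add,
              pow_mul, hi, one_pow, one_mul, mul_comm (p ^ i), pow_mul, hj, one_pow]
          inv_mem' := by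
            rintro a ⟨ha, i, hi⟩
            exact ⟨inv_mem ha, i, by rw [inv_pow, hi, inv_one]⟩ }
      have hCpp : IsPGroup p Cp := fun x => by
        obtain ⟨-, j, hj⟩ := x.2
        exact ⟨j, Subtype.ext (by simpa using hj)⟩
      have hconj : ∀ g ∈ M, ∀ x ∈ Cp, g * x * g⁻¹ ∈ Cp := by
        rintro g hg x ⟨hx, j, hj⟩
        refine ⟨(mem_normalizer_iff.1 (hMC hg) x).1 hx, j, ?_⟩
        rw [conj_pow, hj, mul_one, mul_inv_cancel]
      have hCpn : Pm ≤ normalizer (Cp : Set G) := by
        intro g hg
        rw [mem_normalizer_iff]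
        refine fun x => ⟨hconj g (hPmM hg) x, fun h => ?_⟩
        have := hconj g⁻¹ (inv_mem (hPmM hg)) _ h
        simpa [mul_assoc] using this
      have hsup : IsPGroup p (Pm ⊔ Cp : Subgroup G) := hPmp.to_sup_of_normal_right' hCpp hCpn
      have hle : (Pm ⊔ Cp : Subgroup G) ≤ M := sup_le hPmM fun x hx => hCM.le hx.1
      have := hmax _ hsup hle le_sup_left
      refine this ▸ le_sup_right (b := Cp) ⟨hcC, k, ?_⟩
      rw [← hk, pow_orderOf_eq_one]
    have hMA : M ≤ normalizer (A : Set G) := by
      have key : ∀ g ∈ M, ∀ x ∈ A, g * x * g⁻¹ ∈ A := by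
        intro g hg x hx
        have h1 : g * x * g⁻¹ ∈ C := (mem_normalizer_iff.1 (hMC hg) x).1 hx.1
        refine ⟨h1, hpC _ h1 ?_⟩
        obtain ⟨k, hk⟩ := IsPGroup.iff_orderOf.1 hPmp ⟨x, hx.2⟩
        rw [← Subgroup.orderOf_coe] at hk
        exact ⟨k, by rw [← MulAut.conj_apply, MulEquiv.orderOf_eq]; exact hk⟩
      intro g hg
      rw [mem_normalizer_iff]
      refine fun x => ⟨key g hg x, fun h => ?_⟩
      have := key g⁻¹ (inv_mem hg) _ h
      simpa [mul_assoc] using this
    have hUA : U ≤ A := le_inf hUC hUPm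
    have hAU : A = U := by
      by_contra hne
      have hc := bigger A hAp (lt_of_le_of_ne hUA (Ne.symm hne)) y (hMA hy) hyo
      exact hyc (mem_centralizer_iff.2 fun u hu => mem_centralizer_iff.1 hc u (hUA hu))
    -- `U` contains the derived subgroup of `Pm`
    have hcomm : ∀ a ∈ Pm, ∀ b ∈ Pm, a * b * a⁻¹ * b⁻¹ ∈ U := by
      -- the maximal subgroup of `Pm` containing `C_Pm(U)`
      have hAlt : A < Pm := lt_of_le_of_ne inf_le_right fun e =>
        hPmc (isComm_mono (e.ge.trans inf_le_left) hCc)
      haveI : Finite Pm := inferInstance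
      obtain ⟨W, hW, hAW⟩ : ∃ W : Subgroup Pm, IsCoatom W ∧ A.subgroupOf Pm ≤ W := by
        rcases eq_top_or_exists_le_coatom (A.subgroupOf Pm) with h | h
        · exact absurd (subgroupOf_eq_top.1 h) (not_le_of_gt hAlt)
        · exact h
      haveI := hPmp.isNilpotent
      have hWn : W.Normal := NormalizerCondition.normal_of_coatom W Group.normalizerCondition_of_isNilpotent hW
      have hWc : IsMulCommutative (W.map Pm.subtype) := by
        refine isComm_of_le_normalizer hsn (M := Pm) ?_ ?_
        · refine lt_of_le_of_ne (map_subtype_le _) fun e => hW.1 ?_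
          rw [eq_top_iff]
          intro x _
          have hx : (x : G) ∈ W.map Pm.subtype := e.symm ▸ x.2
          obtain ⟨w, hw, hwx⟩ := hx
          rwa [← Subtype.ext (hwx : (w : G) = x)]
        · intro g hg
          have := Subgroup.le_normalizer_map (H := W) Pm.subtype
            ⟨⟨g, hg⟩, by rw [Subgroup.normalizer_eq_top]; trivial, rfl⟩
          exact this
      have hWA : W = A.subgroupOf Pm := by
        refine le_antisymm (fun w hw => ?_) hAW
        refine ⟨mem_centralizer_iff.2 fun u hu => ?_, w.2⟩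
        exact isComm_iff.1 hWc u ⟨⟨u, hUPm hu⟩, hAW (hUA hu), rfl⟩ w ⟨w, hw, rfl⟩
      have hq : IsMulCommutative (Pm ⧸ W) := by
        have hWmax : ∀ H : Subgroup (Pm ⧸ W), H = ⊥ ∨ H = ⊤ := by
          intro H
          rcases hW.le_iff.1 (QuotientGroup.le_comap_mk' W H) with h | h
          · right
            apply comap_injective (QuotientGroup.mk'_surjective W)
            rw [h, comap_top]
          · left
            apply comap_injective (QuotientGroup.mk'_surjective W)
            rw [h, MonoidHom.comap_bot, QuotientGroup.ker_mk']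
        refine ⟨⟨fun a b => ?_⟩⟩
        rcases hWmax (zpowers a) with h | h
        · rw [zpowers_eq_bot.1 h, one_mul, mul_one]
        · obtain ⟨k, rfl⟩ := mem_zpowers_iff.1 (h.ge (mem_top b))
          exact (Commute.refl a).zpow_right k
      intro a ha b hb
      have h : (⟨a, ha⟩ * ⟨b, hb⟩ * (⟨a, ha⟩ : Pm)⁻¹ * (⟨b, hb⟩ : Pm)⁻¹) ∈ W := by
        rw [← QuotientGroup.eq_one_iff]
        have := hq.is_comm.comm ((⟨a, ha⟩ : Pm) : Pm ⧸ W) ((⟨b, hb⟩ : Pm) : Pm ⧸ W)
        simp only [QuotientGroup.mk_mul, QuotientGroup.mk_inv, this]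
        group
      rw [hWA, hAU] at h
      exact h
    -- Burnside transfer in `M ⧸ U`
    haveI hUn : (U.subgroupOf M).Normal := Subgroup.normal_subgroupOf_of_le_normalizer le_rfl
    let f : M →* M ⧸ U.subgroupOf M := QuotientGroup.mk' _
    have hf : Function.Surjective f := QuotientGroup.mk'_surjective _
    set Qb : Sylow p (M ⧸ U.subgroupOf M) := Q.mapSurjective hf
    have hcomap : ((Qb : Subgroup (M ⧸ U.subgroupOf M))).comap f = (Q : Subgroup M) := by
      rw [Sylow.coe_mapSurjective, comap_map_eq, sup_eq_left]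
      rw [QuotientGroup.ker_mk']
      exact hQ
    have hN : normalizer ((Qb : Subgroup (M ⧸ U.subgroupOf M)) : Set (M ⧸ U.subgroupOf M)) ≤
        centralizer ((Qb : Subgroup (M ⧸ U.subgroupOf M)) : Set (M ⧸ U.subgroupOf M)) := by
      intro nb hnb
      obtain ⟨n, rfl⟩ := hf nb
      have hn : n ∈ normalizer ((Q : Subgroup M) : Set M) := by
        rw [← hcomap, ← comap_normalizer_eq_of_surjective _ hf]
        exact hnb
      have hnQ : (n : G) ∈ Pm := hPN.le (Subgroup.le_normalizer_map M.subtype ⟨n, hn, rfl⟩)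
      refine mem_centralizer_iff.2 fun qb hqb => ?_
      obtain ⟨q, hq, rfl⟩ := hqb
      rw [← map_mul, ← map_mul, QuotientGroup.mk'_apply, QuotientGroup.mk'_apply, QuotientGroup.eq,
        mem_subgroupOf]
      have := hcomm (n : G)⁻¹ (inv_mem hnQ) (q : G)⁻¹ (inv_mem ⟨q, hq, rfl⟩)
      simpa [mul_assoc] using this
    set K := (MonoidHom.transferSylow Qb hN).ker with hK
    haveI hKn : K.Normal := MonoidHom.normal_ker _
    set L : Subgroup G := (K.comap f).map M.subtype with hL
    have hLM : L < M := by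
      refine lt_of_le_of_ne (map_subtype_le _) fun e => ?_
      have htop : K.comap f = ⊤ := by
        rw [eq_top_iff]
        intro x _
        have hx : (x : G) ∈ L := e.symm ▸ x.2
        obtain ⟨w, hw, hwx⟩ := hx
        rwa [← Subtype.ext (hwx : (w : G) = x)]
      have hK' : K = ⊤ := by
        apply comap_injective hf
        rw [htop, comap_top]
      have hbot := MonoidHom.ker_transferSylow_disjoint Qb hN Qb Qb.2
      rw [← hK, hK', top_disjoint] at hbot
      apply hlt.not_ge
      intro x hx
      obtain ⟨q, hq, rfl⟩ := hx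
      have h1 : f q ∈ (Qb : Subgroup (M ⧸ U.subgroupOf M)) := by
        rw [Sylow.coe_mapSurjective]; exact mem_map_of_mem f hq
      rw [hbot, mem_bot, QuotientGroup.mk'_apply, QuotientGroup.eq_one_iff] at h1
      exact h1
    have hLn : M ≤ normalizer (L : Set G) := by
      intro g hg
      exact Subgroup.le_normalizer_map (H := K.comap f) M.subtype
        ⟨⟨g, hg⟩, by rw [Subgroup.normalizer_eq_top]; trivial, rfl⟩
    have hLc := isComm_of_le_normalizer hsn hLM hLn
    have hyL : y ∈ L := by
      refine ⟨⟨y, hy⟩, ?_, rfl⟩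
      rw [SetLike.mem_coe, mem_comap, MonoidHom.mem_ker, ← orderOf_eq_one_iff]
      obtain ⟨k, hk⟩ := IsPGroup.iff_orderOf.1 Qb.2 (MonoidHom.transferSylow Qb hN (f ⟨y, hy⟩))
      rcases Nat.eq_zero_or_pos k with h0 | h0
      · rw [hk, h0, pow_zero]
      · exfalso
        have hdvd := (orderOf_map_dvd (MonoidHom.transferSylow Qb hN) (f ⟨y, hy⟩)).trans
          (orderOf_map_dvd f ⟨y, hy⟩)
        rw [hk, Subgroup.orderOf_mk] at hdvd
        exact (Nat.Prime.coprime_iff_not_dvd Fact.out).1 hyo.symm
          ((dvd_pow_self p h0.ne').trans hdvd)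
    have hUL : U ≤ L := fun u hu => by
      refine ⟨⟨u, hUM hu⟩, ?_, rfl⟩
      rw [SetLike.mem_coe, mem_comap]
      have : f ⟨u, hUM hu⟩ = 1 := by
        rw [QuotientGroup.mk'_apply, QuotientGroup.eq_one_iff]; exact hu
      rw [this]; exact one_mem _
    exact hyc (mem_centralizer_iff.2 fun u hu => isComm_iff.1 hLc u (hUL hu) y hyL)

variable [IsSimpleGroup G]

theorem sylow_comm (hna : ¬ IsMulCommutative G) (P : Sylow p G) :
    IsMulCommutative (P : Subgroup G) := by
  by_contra h
  have hP : ∀ R : Sylow p G, ¬ IsMulCommutative (R : Subgroup G) := fun R hR => h (by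
    haveI := hR
    exact ⟨⟨fun a b => (R.equiv P).symm.injective (by rw [map_mul, map_mul]; exact hR.is_comm.comm _ _)⟩⟩)
  obtain ⟨R, N, hN, hc⟩ :=
    Agent.Fusion.hasNormalPComplement_of_frobenius (p := p) (centralizes hsn hP)
  rcases hN.eq_bot_or_eq_top with e | e
  · subst e
    have hR : (R : Subgroup G) = ⊤ := isComplement'_bot_left.1 hc
    haveI : Group.IsNilpotent (R : Subgroup G) := R.2.isNilpotent
    haveI : Group.IsNilpotent G := Group.nilpotent_of_mulEquiv ((MulEquiv.subgroupCongr hR).trans topEquiv)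
    refine hna ⟨⟨?_⟩⟩
    exact IsSimpleGroup.comm_iff_isSolvable.2 inferInstance
  · subst e
    have hR : (R : Subgroup G) = ⊥ := isComplement'_top_left.1 hc
    refine hP R (hR ▸ ?_)
    exact isComm_iff.2 fun a ha b hb => by
      rw [mem_bot] at ha hb; rw [ha, hb]

end Cfsg.Agent.NonabSelfNorm
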