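import Cfsg.Agent.NonabSelfNorm.Basic
import Cfsg.Agent.HSub.Supersolvable

/-!
# Centralisers in simple groups with self-normalizing non-abelian subgroups
-/

set_option autoImplicit false
set_option linter.style.haveILetI false
set_option linter.unusedSectionVars false

namespace Cfsg.Agent.NonabSelfNorm

open Subgroup
open scoped Pointwise

variable {G : Type*} [Group G] [Finite G] [IsSimpleGroup G]

theorem center_eq_bot' (hna : ¬ IsMulCommutative G) : center G = ⊥ := by
  rcases (inferInstance : (center G).Normal).eq_bot_or_eq_top with e | e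
  · exact e
  · exact absurd ⟨⟨fun a b => mem_center_iff.1 (e.ge (mem_top b)) a⟩⟩ hna

theorem exists_pow_prime {G : Type*} [Group G] [Finite G] {z : G} (hz : z ≠ 1) :
    ∃ k : ℕ, (orderOf (z ^ k)).Prime := by
  have hr : (orderOf z).minFac.Prime :=
    Nat.minFac_prime (fun e => hz (orderOf_eq_one_iff.1 e))
  refine ⟨orderOf z / (orderOf z).minFac, ?_⟩
  rw [orderOf_pow' _ (Nat.div_pos (Nat.minFac_le (orderOf_pos z)) hr.pos).ne',
    Nat.gcd_eq_right (Nat.div_dvd_of_dvd (Nat.minFac_dvd _)),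
    Nat.div_div_self (Nat.minFac_dvd _) (orderOf_pos z).ne']
  exact hr

theorem centralizer_comm_prime (hsn : SN G) (hna : ¬ IsMulCommutative G) {z : G} {r : ℕ}
    (hr : r.Prime) (hzr : orderOf z = r) : IsMulCommutative (centralizer ({z} : Set G)) := by
  by_contra hC
  haveI := Fact.mk hr
  set C := centralizer ({z} : Set G) with hCdef
  have hz1 : z ≠ 1 := fun e => hr.ne_one (by rw [← hzr, e, orderOf_one])
  have hzC : z ∈ C := mem_centralizer_iff.2 fun w hw => by rw [Set.mem_singleton_iff.1 hw]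
  have hzcomm : ∀ c ∈ C, z * c = c * z := fun c hc => mem_centralizer_iff.1 hc z rfl
  have hCtop : C ≠ ⊤ := fun e => hz1 (by
    rw [← mem_bot (G := G), ← center_eq_bot' hna]
    exact mem_center_iff.2 fun g => (hzcomm g (e.ge (mem_top g))).symm)
  have hNC : normalizer (C : Set G) = C := hsn C hC
  obtain ⟨P⟩ : Nonempty (Sylow r C) := inferInstance
  haveI hPc : IsMulCommutative (P : Subgroup C) := by
    obtain ⟨R, hR⟩ := (P.2.map C.subtype).exists_le_sylow
    have h := isComm_iff.1 (sylow_comm hsn hna R)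
    exact isComm_iff.2 fun a ha b hb =>
      Subtype.ext (h a (hR ⟨a, ha, rfl⟩) b (hR ⟨b, hb, rfl⟩))
  set zc : C := ⟨z, hzC⟩ with hzc
  have hzcent : zc ∈ center C := mem_center_iff.2 fun c => Subtype.ext (hzcomm c c.2).symm
  have hzP : zc ∈ (P : Subgroup C) := by
    have hZ : IsPGroup r (zpowers zc) := IsPGroup.of_card (n := 1) (by
      rw [Nat.card_zpowers, Subgroup.orderOf_mk, hzr, pow_one])
    have hsup : IsPGroup r ((P : Subgroup C) ⊔ zpowers zc : Subgroup C) :=
      P.2.to_sup_of_normal_left' hZ (by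
        rw [zpowers_le, mem_normalizer_iff]
        intro x
        rw [← mem_center_iff.1 hzcent x, mul_assoc, mul_inv_cancel, mul_one])
    exact P.3 hsup le_sup_left ▸ mem_sup_right (mem_zpowers zc)
  -- the first transfer
  letI : CommGroup (P : Subgroup C) :=
    { (inferInstance : Group (P : Subgroup C)) with mul_comm := hPc.is_comm.comm }
  set φ : C →* (P : Subgroup C) := MonoidHom.transfer (MonoidHom.id (P : Subgroup C)) with hφ
  have hind : ((P : Subgroup C).index).Coprime r :=
    ((Nat.Prime.coprime_iff_not_dvd hr).2 P.not_dvd_index).symm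
  have hφz : φ zc ≠ 1 := by
    have hkey : ∀ (k : ℕ) (g₀ : C), g₀⁻¹ * zc ^ k * g₀ ∈ (P : Subgroup C) →
        g₀⁻¹ * zc ^ k * g₀ = zc ^ k := fun k g₀ _ => by
      rw [mul_assoc, ← mem_center_iff.1 (pow_mem hzcent k) g₀, inv_mul_cancel_left]
    rw [hφ, MonoidHom.transfer_eq_pow (MonoidHom.id _) zc hkey, MonoidHom.id_apply]
    intro e
    have e' : zc ^ (P : Subgroup C).index = 1 := congrArg Subtype.val e
    have := Nat.eq_one_of_dvd_coprimes hind (orderOf_dvd_of_pow_eq_one e')
      (by rw [Subgroup.orderOf_mk, hzr])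
    rw [Subgroup.orderOf_mk, hzr] at this
    exact hr.ne_one this
  set K := φ.ker with hKdef
  have hKlt : K < ⊤ := lt_top_iff_ne_top.2 fun e => hφz (by
    rw [← MonoidHom.mem_ker, ← hKdef, e]; trivial)
  have hmapN : ∀ H : Subgroup C, H.Normal → H < ⊤ → IsMulCommutative H := by
    intro H hH hlt
    have h1 := isComm_of_le_normalizer hsn (H := H.map C.subtype) (M := C) (by
      refine lt_of_le_of_ne (map_subtype_le _) fun e => hlt.ne ?_
      rw [eq_top_iff]
      intro x _
      have hx : (x : G) ∈ H.map C.subtype := e.symm ▸ x.2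
      obtain ⟨w, hw, hwx⟩ := hx
      rwa [← Subtype.ext (hwx : (w : G) = x)]) (fun g hg =>
        Subgroup.le_normalizer_map (H := H) C.subtype
          ⟨⟨g, hg⟩, by rw [Subgroup.normalizer_eq_top]; trivial, rfl⟩)
    exact isComm_iff.2 fun a ha b hb => Subtype.ext (isComm_iff.1 h1 a ⟨a, ha, rfl⟩ b ⟨b, hb, rfl⟩)
  have hKc := isComm_iff.1 (hmapN K (MonoidHom.normal_ker _) hKlt)
  -- every element is an element of `K` times an element of `P`
  have hKP : ∀ c : C, ∃ k ∈ K, ∃ q ∈ (P : Subgroup C), c = k * q := by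
    intro c
    have hd : Nat.card (C ⧸ K) ∣ Nat.card (P : Subgroup C) := by
      rw [Nat.card_congr (QuotientGroup.quotientKerEquivRange φ).toEquiv]
      exact Subgroup.card_subgroup_dvd_card _
    obtain ⟨a, ha⟩ := IsPGroup.iff_card.1 P.2
    have hsup : K ⊔ (P : Subgroup C) = ⊤ := by
      rw [← Subgroup.index_eq_one]
      refine Nat.eq_one_of_dvd_coprimes (hind.pow_right a) ?_ ?_
      · exact Subgroup.index_dvd_of_le le_sup_right
      · rw [← ha]
        refine (Subgroup.index_dvd_of_le le_sup_left).trans ?_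
        rw [Subgroup.index_eq_card]; exact hd
    have hc : c ∈ ((K : Subgroup C) : Set C) * ((P : Subgroup C) : Set C) := by
      rw [← Subgroup.normal_mul, hsup]; trivial
    obtain ⟨k, hk, q, hq, rfl⟩ := hc
    exact ⟨k, hk, q, hq, rfl⟩
  -- the normalizer of `P` centralizes it
  have hN : normalizer ((P : Subgroup C) : Set C) ≤ centralizer ((P : Subgroup C) : Set C) := by
    intro n hn
    refine mem_centralizer_iff.2 fun q hq => ?_
    have hPP := isComm_iff.1 (inferInstance : IsMulCommutative (P : Subgroup C))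
    obtain ⟨a, m, hm, hnm⟩ := Nat.exists_eq_pow_mul_and_not_dvd (orderOf_pos n).ne' r hr.ne_one
    have hm0 : m ≠ 0 := fun e => hm (by rw [e]; exact dvd_zero r)
    have hnm' : n ^ m ∈ (P : Subgroup C) := by
      have hZ : IsPGroup r (zpowers (n ^ m)) := IsPGroup.of_card (n := a) (by
        rw [Nat.card_zpowers, orderOf_pow' _ hm0, hnm, Nat.gcd_eq_right (dvd_mul_left m (r ^ a)),
          Nat.mul_div_cancel _ (Nat.pos_of_ne_zero hm0)])
      have hsup := P.2.to_sup_of_normal_left' hZ (zpowers_le.2 (pow_mem hn m))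
      exact P.3 hsup le_sup_left ▸ mem_sup_right (mem_zpowers _)
    set c := n * q * n⁻¹ * q⁻¹ with hc
    have hcP : c ∈ (P : Subgroup C) := mul_mem ((mem_normalizer_iff.1 hn q).1 hq) (inv_mem hq)
    have hcK : c ∈ K := by
      rw [hKdef, MonoidHom.mem_ker, hc, map_mul, map_mul, map_mul, map_inv, map_inv,
        mul_comm (φ n) (φ q), mul_inv_cancel_right, mul_inv_cancel]
    have hcen : ∀ x : C, x * c = c * x := by
      intro x
      obtain ⟨k, hk, w, hw, rfl⟩ := hKP x
      rw [mul_assoc, hPP w hw c hcP, ← mul_assoc, hKc k hk c hcK, mul_assoc]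
    have hpow : ∀ j : ℕ, n ^ j * q * (n ^ j)⁻¹ = c ^ j * q := by
      intro j
      induction j with
      | zero => simp
      | succ j ih =>
        have e1 : n ^ (j + 1) * q * (n ^ (j + 1))⁻¹ = n * (n ^ j * q * (n ^ j)⁻¹) * n⁻¹ := by
          rw [pow_succ']; group
        rw [e1, ih, ← mul_assoc n, show n * c ^ j = c ^ j * n from (Commute.pow_right (hcen n) j).eq,
          pow_succ, mul_assoc (c ^ j) c q, mul_assoc, mul_assoc]
        congr 1
        rw [hc, ← mul_assoc]
        group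
    have hcm : c ^ m = 1 := by
      have h := hpow m
      rw [hPP _ hnm' q hq, mul_inv_cancel_right] at h
      exact right_eq_mul.1 h
    have hc1 : c = 1 := by
      obtain ⟨i, hi⟩ := IsPGroup.iff_orderOf.1 P.2 ⟨c, hcP⟩
      rw [← Subgroup.orderOf_coe] at hi
      rw [← orderOf_eq_one_iff]
      exact Nat.eq_one_of_dvd_coprimes (((Nat.Prime.coprime_iff_not_dvd hr).2 hm).pow_left i)
        (dvd_of_eq hi) (orderOf_dvd_of_pow_eq_one hcm)
    rw [hc, mul_inv_eq_one, mul_inv_eq_iff_eq_mul] at hc1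
    exact hc1.symm
  set ψ := MonoidHom.transferSylow P hN with hψ
  have hcomp : ψ.ker.IsComplement' (P : Subgroup C) := MonoidHom.ker_transferSylow_isComplement' P hN
  have hdisj : Disjoint ψ.ker (P : Subgroup C) := MonoidHom.ker_transferSylow_disjoint P hN _ P.2
  -- a generator of `P` modulo the kernel
  obtain ⟨y, hyP, hy⟩ : ∃ y ∈ (P : Subgroup C), ψ.ker ⊔ zpowers y = ⊤ := by
    by_contra hno
    push Not at hno
    have hnor : ∀ y : C, (ψ.ker ⊔ zpowers y).Normal := by
      intro y
      refine ⟨fun x hx g => ?_⟩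
      have hxx : g * x * g⁻¹ = (g * x * g⁻¹ * x⁻¹) * x := by group
      rw [hxx]
      refine mul_mem (mem_sup_left ?_) hx
      rw [MonoidHom.mem_ker, map_mul, map_mul, map_mul, map_inv, map_inv, mul_comm (ψ g) (ψ x),
        mul_inv_cancel_right, mul_inv_cancel]
    refine hC (isComm_iff.2 fun a ha b hb => ?_)
    have hPP := isComm_iff.1 (inferInstance : IsMulCommutative (P : Subgroup C))
    have hJ : ∀ w ∈ (P : Subgroup C), IsMulCommutative (ψ.ker ⊔ zpowers w : Subgroup C) := fun w hw =>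
      hmapN _ (hnor w) (lt_top_iff_ne_top.2 (hno w hw))
    have hkk : ∀ k ∈ ψ.ker, ∀ k' ∈ ψ.ker, k * k' = k' * k := fun k hk k' hk' =>
      isComm_iff.1 (hJ 1 (one_mem _)) k (mem_sup_left hk) k' (mem_sup_left hk')
    have hkw : ∀ k ∈ ψ.ker, ∀ w ∈ (P : Subgroup C), k * w = w * k := fun k hk w hw =>
      isComm_iff.1 (hJ w hw) k (mem_sup_left hk) w (mem_sup_right (mem_zpowers w))
    obtain ⟨⟨k, w⟩, he⟩ := hcomp.2 ⟨a, ha⟩
    obtain ⟨⟨k', w'⟩, he'⟩ := hcomp.2 ⟨b, hb⟩
    have he1 : (k : C) * w = ⟨a, ha⟩ := he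
    have he2 : (k' : C) * w' = ⟨b, hb⟩ := he'
    have hh : (⟨a, ha⟩ : C) * ⟨b, hb⟩ = ⟨b, hb⟩ * ⟨a, ha⟩ := by
      rw [← he1, ← he2]
      exact ((show Commute (k : C) k' from hkk _ k.2 _ k'.2).mul_right (hkw _ k.2 _ w'.2)).mul_left
        ((show Commute (w : C) k' from (hkw _ k'.2 _ w.2).symm).mul_right (hPP _ w.2 _ w'.2))
    exact congrArg Subtype.val hh
  have hcyc : (P : Subgroup C) ≤ zpowers y := by
    intro w hw
    have hw' : w ∈ ((ψ.ker : Subgroup C) : Set C) * (zpowers y : Set C) := by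
      rw [← Subgroup.normal_mul, hy]; trivial
    obtain ⟨k, hk, v, hv, rfl⟩ := hw'
    have hk1 : k = 1 := (disjoint_def.1 hdisj) hk
      (by simpa using mul_mem hw (inv_mem (zpowers_le.2 hyP hv)))
    simpa [hk1] using hv
  -- `P` is a Sylow subgroup of `G`
  obtain ⟨R, hR⟩ := (P.2.map C.subtype).exists_le_sylow
  have hRc := isComm_iff.1 (sylow_comm hsn hna R)
  have hzR : z ∈ R := hR ⟨zc, hzP, rfl⟩
  have hRC : (R : Subgroup G) ≤ C := fun x hx => mem_centralizer_iff.2 fun w hw => by
    rw [Set.mem_singleton_iff.1 hw]; exact hRc z hzR x hx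
  have hRP : (R : Subgroup G).subgroupOf C = (P : Subgroup C) :=
    P.3 (R.2.of_equiv (subgroupOfEquivOfLe hRC).symm) fun x hx => hR ⟨x, hx, rfl⟩
  have hRy : (R : Subgroup G) ≤ zpowers (y : G) := fun x hx => by
    obtain ⟨i, hi⟩ := mem_zpowers_iff.1 (hcyc (hRP.le (show (⟨x, hRC hx⟩ : C) ∈ _ from hx)))
    exact mem_zpowers_iff.2 ⟨i, by simpa using congrArg Subtype.val hi⟩
  -- so Burnside applies to `G`
  have hNR : normalizer ((R : Subgroup G) : Set G) ≤ centralizer ((R : Subgroup G) : Set G) := by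
    intro g hg
    have hgz : g * z * g⁻¹ ∈ (R : Subgroup G) := (mem_normalizer_iff.1 hg z).1 hzR
    haveI : IsCyclic (R : Subgroup G) :=
      isCyclic_of_injective (Subgroup.inclusion hRy) (Subgroup.inclusion_injective hRy)
    have hsame : ∃ i : ℤ, g * z * g⁻¹ = z ^ i := by
      have h1 : orderOf (g * z * g⁻¹) = r := by rw [← MulAut.conj_apply, MulEquiv.orderOf_eq, hzr]
      have hAB : zpowers z = zpowers (g * z * g⁻¹) :=
        HSub.subgroup_eq_of_card_eq (C := (R : Subgroup G)) inferInstance (zpowers_le.2 hzR)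
          (zpowers_le.2 hgz) (by rw [Nat.card_zpowers, Nat.card_zpowers, h1, hzr])
      obtain ⟨i, hi⟩ := mem_zpowers_iff.1 (hAB.ge (mem_zpowers (g * z * g⁻¹)))
      exact ⟨i, hi.symm⟩
    obtain ⟨i, hi⟩ := hsame
    have hgC : g ∈ normalizer (C : Set G) := by
      have key : ∀ c ∈ C, g⁻¹ * c * g ∈ C := fun c hc => mem_centralizer_iff.2 fun w hw => by
        rw [Set.mem_singleton_iff.1 hw]
        have h2 : z ^ i * c = c * z ^ i := (Commute.zpow_left (hzcomm c hc) i).eq
        rw [← hi] at h2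
        calc z * (g⁻¹ * c * g) = g⁻¹ * ((g * z * g⁻¹) * c) * g := by group
          _ = g⁻¹ * (c * (g * z * g⁻¹)) * g := by rw [h2]
          _ = g⁻¹ * c * g * z := by group
      refine (mem_normalizer_iff'').2 fun c => ⟨key c, fun h => ?_⟩
      have hmap : C.map (MulAut.conj g⁻¹).toMonoidHom = C := by
        refine Subgroup.eq_of_le_of_card_ge ?_ ?_
        · rintro x ⟨c, hc, rfl⟩
          simpa using key c hc
        · rw [Nat.card_congr (C.equivMapOfInjective (MulAut.conj g⁻¹).toMonoidHom (MulAut.conj g⁻¹).injective).toEquiv]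
      obtain ⟨c', hc', he⟩ := hmap.ge h
      have : c' = c := by simpa using he
      exact this ▸ hc'
    rw [hNC] at hgC
    refine mem_centralizer_iff.2 fun x hx => ?_
    have hgN : (⟨g, hgC⟩ : C) ∈ normalizer ((P : Subgroup C) : Set C) := by
      rw [← hRP, mem_normalizer_iff]
      exact fun c => mem_normalizer_iff.1 hg c
    have := mem_centralizer_iff.1 (hN hgN) ⟨x, hRC hx⟩ (hRP.le hx)
    exact congrArg Subtype.val this
  set f := MonoidHom.transferSylow R hNR
  have hcf := MonoidHom.ker_transferSylow_isComplement' R hNR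
  rcases (MonoidHom.normal_ker f).eq_bot_or_eq_top with e | e
  · rw [e, isComplement'_bot_left] at hcf
    exact hna ⟨⟨fun a b => hRc a (hcf ▸ mem_top a) b (hcf ▸ mem_top b)⟩⟩
  · rw [e, isComplement'_top_left] at hcf
    replace hzR : z ∈ (R : Subgroup G) := hzR
    rw [hcf, mem_bot] at hzR
    exact hz1 hzR

theorem centralizer_comm (hsn : SN G) (hna : ¬ IsMulCommutative G) {z : G} (hz : z ≠ 1) :
    IsMulCommutative (centralizer ({z} : Set G)) := by
  obtain ⟨k, hk⟩ := exists_pow_prime hz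
  refine isComm_mono (fun c hc => mem_centralizer_iff.2 fun w hw => ?_)
    (centralizer_comm_prime hsn hna hk rfl)
  rw [Set.mem_singleton_iff.1 hw]
  exact (Commute.pow_left (show Commute z c from mem_centralizer_iff.1 hc z rfl) k).eq

theorem ct (hsn : SN G) (hna : ¬ IsMulCommutative G) :
    ∀ a b c : G, a ≠ 1 → b ≠ 1 → c ≠ 1 → Commute a b → Commute b c → Commute a c := by
  intro a b c _ hb _ hab hbc
  refine isComm_iff.1 (centralizer_comm hsn hna hb) a ?_ c ?_
  · exact mem_centralizer_iff.2 fun w hw => by rw [Set.mem_singleton_iff.1 hw]; exact hab.eq.symm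
  · exact mem_centralizer_iff.2 fun w hw => by rw [Set.mem_singleton_iff.1 hw]; exact hbc.eq

end Cfsg.Agent.NonabSelfNorm
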