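import Cfsg.Agent.NonabSelfNorm.Basic
import Cfsg.Agent.Classical.Dickson2.Maximal
import Cfsg.Agent.Classical.SmallSimple
import Cfsg.Agent.Fg24.CTGroups.Converse

/-!
# Non-abelian subgroups of SL(2, 2^n)
-/

set_option autoImplicit false
set_option linter.style.haveILetI false
set_option linter.unusedSectionVars false

namespace Cfsg.Agent.NonabSelfNorm

open Subgroup Matrix

theorem sn_congr {G H : Type*} [Group G] [Group H] (e : G ≃* H) (h : SN G) : SN H := by
  intro K hK
  have hnc : ¬ IsMulCommutative (K.comap e.toMonoidHom) := fun hc => hK (isComm_iff.2 fun a ha b hb => by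
    have := isComm_iff.1 hc (e.symm a) (by simpa using ha) (e.symm b) (by simpa using hb)
    simpa using congrArg e this)
  have h1 := h _ hnc
  apply comap_injective (f := e.toMonoidHom) e.surjective
  rw [comap_normalizer_eq_of_surjective _ e.surjective]
  exact h1

section Forward

variable {F : Type*} [Field F] [Fintype F]

local notation "SG" => Matrix.SpecialLinearGroup (Fin 2) F

theorem vmul (A B : SG) : (A * B).1 = A.1 * B.1 := rfl

theorem vinv (A : SG) : (A⁻¹).1 = A.1.adjugate := rfl

theorem upper_mul {A B : SG} (hB : B.1 1 0 = 0) :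
    (A * B).1 0 0 = A.1 0 0 * B.1 0 0 ∧ (A * B).1 1 0 = A.1 1 0 * B.1 0 0 := by
  constructor <;>
    simp [vmul, Matrix.mul_apply, Fin.sum_univ_two, hB]

theorem upper_inv {A : SG} (hA : A.1 1 0 = 0) :
    (A⁻¹).1 1 0 = 0 ∧ A.1 0 0 * (A⁻¹).1 0 0 = 1 := by
  have hd : A.1.det = 1 := A.2
  rw [Matrix.det_fin_two, hA, mul_zero, sub_zero] at hd
  simp [vinv, Matrix.adjugate_fin_two, hA, hd]

/-- The upper triangular matrices with diagonal entry in `D`. -/
def triH (D : Subgroup Fˣ) : Subgroup SG where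
  carrier := {A | A.1 1 0 = 0 ∧ ∃ u ∈ D, A.1 0 0 = (u : F)}
  one_mem' := ⟨by simp, 1, one_mem _, by simp⟩
  mul_mem' := by
    rintro A B ⟨hA, u, hu, hA'⟩ ⟨hB, v, hv, hB'⟩
    obtain ⟨h1, h2⟩ := upper_mul (A := A) hB
    exact ⟨by rw [h2, hA, zero_mul], u * v, mul_mem hu hv, by rw [h1, hA', hB', Units.val_mul]⟩
  inv_mem' := by
    rintro A ⟨hA, u, hu, hA'⟩
    obtain ⟨h1, h2⟩ := upper_inv hA
    refine ⟨h1, u⁻¹, inv_mem hu, ?_⟩
    rw [hA'] at h2
    rw [Units.val_inv_eq_inv_val]
    exact eq_inv_of_mul_eq_one_right h2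

/-- A diagonal matrix. -/
def dg (b : Fˣ) : SG := ⟨!![(b : F), 0; 0, ((b⁻¹ : Fˣ) : F)], by simp [Matrix.det_fin_two]⟩

theorem prime_of_sn (h4 : 4 ≤ Fintype.card F) (h2 : (2 : F) = 0) (h : SN SG) :
    (Fintype.card F - 1).Prime := by
  classical
  by_contra hnp
  haveI : CharP F 2 := CharTwo.of_one_ne_zero_of_two_eq_zero one_ne_zero h2
  obtain ⟨g, hg⟩ := IsCyclic.exists_ofOrder_eq_natCard (α := Fˣ)
  rw [Nat.card_units, Nat.card_eq_fintype_card] at hg
  set m := Fintype.card F - 1 with hm
  have hd := Nat.minFac_prime (show m ≠ 1 by omega)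
  set d := m.minFac with hd'
  have hdm : d ∣ m := Nat.minFac_dvd m
  have hdne : d ≠ m := fun e => hnp (e ▸ hd)
  set D := zpowers (g ^ d) with hD
  have hord : orderOf (g ^ d) = m / d := by
    rw [orderOf_pow' _ hd.ne_zero, hg, Nat.gcd_eq_right hdm]
  have hu : g ^ d ≠ 1 := fun e => by
    rw [e, orderOf_one] at hord
    have := Nat.div_mul_cancel hdm
    rw [← hord, one_mul] at this
    exact hdne this
  have hgD : g ∉ D := fun hgD => by
    have h1 : Nat.card (zpowers g) ≤ Nat.card D :=
      Subgroup.card_le_of_le (zpowers_le.2 hgD)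
    rw [Nat.card_zpowers, hD, Nat.card_zpowers, hg, hord] at h1
    exact absurd (Nat.div_lt_self (show 0 < m by omega) hd.one_lt) (not_lt.2 h1)
  let w : SG := ⟨!![1, 1; 0, 1], by simp [Matrix.det_fin_two]⟩
  have hwH : w ∈ triH D := ⟨rfl, 1, one_mem _, by simp [w]⟩
  have hdH : dg (g ^ d) ∈ triH D := ⟨rfl, g ^ d, mem_zpowers _, by simp [dg]⟩
  have hnc : ¬ IsMulCommutative (triH D) := fun hc => by
    have := congrArg (fun A : SG => A.1 0 1) (isComm_iff.1 hc _ hdH _ hwH)
    simp only [vmul] at this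
    simp [dg, w, Matrix.mul_apply, Fin.sum_univ_two] at this
    -- a unit equal to its inverse in characteristic two
    rw [← Units.val_pow_eq_pow_val] at this
    set u := g ^ d with hudef
    have hu' : (u : F) * u = 1 := by
      conv_lhs => arg 2; rw [this]
      simp
    refine hu (Units.ext ?_)
    have h0 : ((u : F) - 1) * ((u : F) - 1) = 0 := by linear_combination hu' - ((u : F) - 1) * h2
    simpa [sub_eq_zero] using h0
  have key : ∀ b : Fˣ, ∀ A ∈ triH D, dg b * A * (dg b)⁻¹ ∈ triH D := by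
    rintro b A ⟨hA, u, hu, hA'⟩
    refine ⟨?_, u, hu, ?_⟩
    · rw [vmul, vmul, vinv]
      simp [dg, Matrix.adjugate_fin_two, Matrix.mul_apply, Matrix.vecMul, dotProduct, Fin.sum_univ_two, hA]
    · rw [vmul, vmul, vinv]
      simp [dg, Matrix.adjugate_fin_two, Matrix.mul_apply, Matrix.vecMul, dotProduct, Fin.sum_univ_two, hA']
      field_simp
  have hN : dg g ∈ normalizer (triH D : Set SG) := by
    rw [mem_normalizer_iff]
    refine fun A => ⟨key g A, fun hA => ?_⟩
    have hinv : dg g⁻¹ = (dg g)⁻¹ := by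
      apply Subtype.ext
      rw [vinv]
      simp [dg, Matrix.adjugate_fin_two]
    have := key g⁻¹ _ hA
    rw [hinv, inv_inv] at this
    simpa [mul_assoc] using this
  rw [h _ hnc] at hN
  obtain ⟨-, u, hu, hgu⟩ := hN
  have : g = u := Units.ext (by simpa [dg] using hgu)
  exact hgD (this ▸ hu)

end Forward

section Converse

theorem sn_dihedral {k : ℕ} (hk : Odd k) {H N : Subgroup (DihedralGroup k)}
    (hHN : H ≤ N) (hNH : N ≤ normalizer (H : Set (DihedralGroup k))) (hH : ¬ IsMulCommutative H) :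
    N ≤ H := by
  obtain ⟨j, hj⟩ : ∃ j, DihedralGroup.sr j ∈ H := by
    by_contra hno
    push Not at hno
    refine hH (isComm_iff.2 fun a ha b hb => ?_)
    rcases a with a | a
    · rcases b with b | b
      · simp [add_comm]
      · exact absurd hb (hno b)
    · exact absurd ha (hno a)
  have hrot : ∀ i, DihedralGroup.r i ∈ N → DihedralGroup.r i ∈ H := by
    intro i hi
    have h1 := (mem_normalizer_iff.1 (hNH hi) _).1 hj
    have h2 := mul_mem hj h1
    obtain ⟨m, hm⟩ := hk
    have h3 := pow_mem (inv_mem h2) (m + 1)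
    simp only [DihedralGroup.r_mul_sr, DihedralGroup.inv_r, DihedralGroup.sr_mul_r,
      DihedralGroup.sr_mul_sr, DihedralGroup.r_pow] at h3
    convert h3 using 2
    have h0 : ((2 * m + 1 : ℕ) : ZMod k) = 0 := hm ▸ ZMod.natCast_self k
    push_cast at h0 ⊢
    linear_combination (-i) * h0
  intro x hx
  rcases x with i | i
  · exact hrot i hx
  · have h1 : DihedralGroup.sr j * DihedralGroup.sr i ∈ N := mul_mem (hHN hj) hx
    have h2 := hrot (i - j) (by simpa using h1)
    have h3 := mul_mem hj h2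
    simpa using h3

variable {F : Type*} [Field F] [Fintype F]

local notation "PG" => Matrix.ProjectiveSpecialLinearGroup (Fin 2) F

open Classical.Dickson2 in
theorem sn_of_prime {n : ℕ} (hn : 2 ≤ n) (hq : Fintype.card F = 2 ^ n) (hp : (2 ^ n - 1).Prime)
    [IsSimpleGroup PG] : SN PG := by
  have hq4 : 4 ≤ Fintype.card F := hq ▸ le_trans (by norm_num) (Nat.pow_le_pow_right two_pos hn)
  have hev : Even (Fintype.card F) := hq ▸ Nat.even_pow.2 ⟨even_two, by omega⟩
  have h2 : (2 : F) = 0 := by
    have : ((2 ^ n : ℕ) : F) = 0 := hq ▸ Nat.cast_card_eq_zero F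
    exact eq_zero_of_pow_eq_zero (by exact_mod_cast this : (2 : F) ^ n = 0)
  haveI : CharP F 2 := CharTwo.of_one_ne_zero_of_two_eq_zero one_ne_zero h2
  haveI : Fact (Nat.Prime 2) := ⟨Nat.prime_two⟩
  have hnp : n.Prime := (Nat.prime_of_pow_sub_one_prime (by omega) hp).2
  intro H hH
  set N := normalizer (H : Set PG) with hN
  rcases eq_top_or_exists_le_coatom N with htop | ⟨M, hM, hNM⟩
  · haveI : H.Normal := normalizer_eq_top_iff.1 htop
    rcases (inferInstance : H.Normal).eq_bot_or_eq_top with e | e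
    · exact absurd (isComm_iff.2 fun a ha b hb => by
        rw [e, mem_bot] at ha hb; rw [ha, hb]) hH
    · rw [htop, e]
  refine le_antisymm ?_ le_normalizer
  have hdih : ∀ k, Odd k → (M ≃* DihedralGroup k) → N ≤ H := by
    intro k hk e
    have h := sn_dihedral hk (H := (H.subgroupOf M).map e.toMonoidHom)
      (N := (N.subgroupOf M).map e.toMonoidHom)
      (map_mono fun x hx => le_normalizer (show (x : PG) ∈ H from hx)) ?_ ?_
    · intro x hx
      obtain ⟨⟨y, hy⟩, hyH, hyx⟩ := h ⟨⟨x, hNM hx⟩, hx, rfl⟩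
      have : y = x := congrArg Subtype.val (e.injective hyx)
      exact this ▸ hyH
    · rintro _ ⟨⟨x, hxM⟩, hx, rfl⟩
      refine Subgroup.le_normalizer_map e.toMonoidHom ⟨⟨x, hxM⟩, ?_, rfl⟩
      rw [SetLike.mem_coe, mem_normalizer_iff]
      exact fun y => mem_normalizer_iff.1 hx (y : PG)
    · intro hc
      refine hH (isComm_iff.2 fun a ha b hb => ?_)
      have := isComm_iff.1 hc _ ⟨⟨a, hNM (le_normalizer ha)⟩, ha, rfl⟩
        _ ⟨⟨b, hNM (le_normalizer hb)⟩, hb, rfl⟩
      rw [← map_mul, ← map_mul] at this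
      exact congrArg Subtype.val (e.injective this)
  have hqodd : Odd (Fintype.card F - 1) ∧ Odd (Fintype.card F + 1) := by
    rw [Nat.odd_iff, Nat.odd_iff]; rw [Nat.even_iff] at hev; omega
  rcases maximal_even hev hq4 M hM with hcard | ⟨⟨e⟩⟩ | ⟨⟨e⟩⟩ | ⟨F₀, _, _, r, hr, hne, hcard, -⟩
  rotate_left
  · exact hdih _ hqodd.1 e
  · exact hdih _ hqodd.2 e
  · exfalso
    rw [hq] at hcard
    obtain ⟨s, a, hs, ha, hs'⟩ := (FiniteField.card F₀ (ringChar F₀)) |> fun ⟨a, hs, h⟩ =>
      (⟨ringChar F₀, (a : ℕ), hs, a.pos, h⟩ : ∃ s a : ℕ, s.Prime ∧ 0 < a ∧ Fintype.card F₀ = s ^ a)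
    rw [hs', ← pow_mul] at hcard
    have hs2 : s = 2 := ((Nat.prime_dvd_prime_iff_eq hs Nat.prime_two).1
      (hs.dvd_of_dvd_pow (hcard.symm ▸ dvd_pow_self s (Nat.mul_pos ha hr.pos).ne')))
    rw [hs2] at hcard hs'
    have h1 : n = a * r := Nat.pow_right_injective le_rfl hcard
    rcases Nat.prime_mul_iff.1 (h1 ▸ hnp) with ⟨-, h⟩ | ⟨-, h⟩
    · exact hr.ne_one h
    · exact hne (by rw [hs', h, pow_one])
  -- the point stabiliser
  set p := 2 ^ n - 1 with hpdef
  haveI : Fact p.Prime := ⟨hp⟩
  have hp2 : 3 ≤ p := by omega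
  have hqp : Fintype.card F = p + 1 := by omega
  rw [show Fintype.card F - 1 = p by omega, hqp] at hcard
  have h4 : 4 ≤ p + 1 := by omega
  have hct : ∀ a b c : PG, b ≠ 1 → Commute a b → Commute b c → Commute a c := by
    intro a b c hb hab hbc
    let e : PG ≃* Matrix.SpecialLinearGroup (Fin 2) F :=
      (QuotientGroup.quotientMulEquivOfEq (Agent.SL2Class.center_eq_bot h2)).trans
        QuotientGroup.quotientBot
    have := Fg24.CT.sl2_ct h2 (a := e a) (b := e b) (c := e c)
      (fun h => hb (e.injective (h.trans (map_one e).symm))) (hab.map e) (hbc.map e)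
    exact (e.injective (by rw [map_mul, map_mul]; exact this.eq) : a * c = c * a)
  have hHM : H ≤ M := le_normalizer.trans hNM
  have hpH : p ∣ Nat.card H := by
    by_contra hnd
    have hdvd : Nat.card H ∣ p + 1 := by
      have := Subgroup.card_dvd_of_le hHM
      rw [hcard] at this
      exact (Nat.Coprime.dvd_of_dvd_mul_right ((Nat.Prime.coprime_iff_not_dvd hp).2 hnd).symm this)
    rw [← hqp, hq] at hdvd
    obtain ⟨i, -, hi⟩ := (Nat.dvd_prime_pow Nat.prime_two).1 hdvd
    have hH2 : IsPGroup 2 H := IsPGroup.of_card hi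
    rcases eq_or_ne (Nat.card H) 1 with h1 | h1
    · haveI := (Nat.card_eq_one_iff_unique.1 h1).1
      exact hH ⟨⟨fun a b => Subsingleton.elim _ _⟩⟩
    · haveI : Nontrivial H := Finite.one_lt_card_iff_nontrivial.1 (by
        have := Nat.card_pos (α := H); omega)
      haveI := hH2.center_nontrivial
      obtain ⟨⟨z, hz⟩, hz1⟩ := exists_ne (1 : center H)
      refine hH (isComm_iff.2 fun a ha b hb => ?_)
      refine (hct a (z : PG) b (fun e => hz1 (Subtype.ext (Subtype.ext e))) ?_ ?_).eq
      · exact congrArg Subtype.val (mem_center_iff.1 hz ⟨a, ha⟩)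
      · exact (congrArg Subtype.val (mem_center_iff.1 hz ⟨b, hb⟩)).symm
  obtain ⟨⟨y, hyH⟩, hy⟩ := exists_prime_orderOf_dvd_card' p hpH
  rw [Subgroup.orderOf_mk] at hy
  have htor : tor y = zpowers y := by
    have hy2 : y ^ 2 ≠ 1 := fun e => by
      have := Nat.le_of_dvd two_pos (orderOf_dvd_of_pow_eq_one e)
      omega
    have hd : p ∣ Nat.card (tor y) := by
      rw [← hy, ← Nat.card_zpowers]
      exact Subgroup.card_dvd_of_le (zpowers_le.2 (mem_tor y))
    have hg : Nat.gcd 2 (Fintype.card F - 1) = 1 :=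
      Nat.coprime_iff_gcd_eq_one.1 ((Nat.Prime.coprime_iff_not_dvd Nat.prime_two).2 (by
        rw [Nat.odd_iff] at hqodd; omega))
    have hc := card_tor_semis 2 hy2
    rw [hg, mul_one] at hc
    have hc' : Nat.card (tor y) = p := by
      rcases hc with h | h
      · omega
      · rw [h, hqp, add_assoc] at hd
        have := Nat.le_of_dvd two_pos ((Nat.dvd_add_right (dvd_refl p)).1 hd)
        omega
    exact (Subgroup.eq_of_le_of_card_ge (zpowers_le.2 (mem_tor y))
      (by rw [hc', Nat.card_zpowers, hy])).symm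
  have hnorm : Nat.card (normalizer ((zpowers y : Subgroup PG) : Set PG)) = 2 * p := by
    have hy2 : y ^ 2 ≠ 1 := fun e => by
      have := Nat.le_of_dvd two_pos (orderOf_dvd_of_pow_eq_one e)
      omega
    have := card_normalizer_semis 2 hy2
    rw [htor, Nat.card_zpowers, hy] at this
    exact this
  -- the normalizer of the subgroup of order p in `M` is itself
  set T : Subgroup M := (zpowers y).subgroupOf M with hT
  have hTM : zpowers y ≤ M := zpowers_le.2 (hHM hyH)
  have hTc : Nat.card T = p := by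
    rw [Nat.card_congr (subgroupOfEquivOfLe hTM).toEquiv, Nat.card_zpowers, hy]
  have hTN : Nat.card (normalizer (T : Set M)) = p := by
    have hdM : Nat.card (normalizer (T : Set M)) ∣ (p + 1) * p := by
      rw [← hcard]; exact Subgroup.card_subgroup_dvd_card _
    have h1 : Nat.card (normalizer (T : Set M)) ∣ 2 * p := by
      rw [← hnorm, Nat.card_congr ((normalizer (T : Set M)).equivMapOfInjective M.subtype M.subtype_injective).toEquiv]
      refine Subgroup.card_dvd_of_le ((Subgroup.le_normalizer_map M.subtype).trans ?_)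
      rw [hT, subgroupOf_map_subtype, inf_eq_left.2 hTM]
    obtain ⟨c, hc⟩ : p ∣ Nat.card (normalizer (T : Set M)) := by
      have := Subgroup.card_dvd_of_le (le_normalizer : T ≤ normalizer (T : Set M))
      rwa [hTc] at this
    rw [hc, mul_comm p c] at h1
    have hc2 : c ∣ 2 := Nat.dvd_of_mul_dvd_mul_right hp.pos h1
    rcases (Nat.dvd_prime Nat.prime_two).1 hc2 with rfl | rfl
    · rw [hc, mul_one]
    exfalso
    let P : Sylow p M := Sylow.ofCard T (by
      rw [hTc, hcard, Nat.factorization_mul (by omega) hp.ne_zero, Finsupp.add_apply,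
        hp.factorization_self, Nat.factorization_eq_zero_of_not_dvd, zero_add, pow_one]
      intro h
      have := Nat.le_of_dvd one_pos ((Nat.dvd_add_right (dvd_refl p)).1 h)
      omega)
    have hmod := card_sylow_modEq_one p M
    have hidx : (normalizer (T : Set M)).index * 2 = p + 1 := by
      have := Subgroup.index_mul_card (normalizer (T : Set M))
      rw [hc, hcard] at this
      have : ((normalizer (T : Set M)).index * 2) * p = (p + 1) * p := by rw [← this]; ring
      exact Nat.eq_of_mul_eq_mul_right hp.pos this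
    have hP : Nat.card (Sylow p M) = (normalizer (T : Set M)).index := by
      rw [P.card_eq_index_normalizer]; rfl
    rw [hP, Nat.ModEq, Nat.one_mod_eq_one.2 hp.ne_one, Nat.mod_eq_of_lt (by omega)] at hmod
    omega
  have hTeq : normalizer (T : Set M) = T :=
    (Subgroup.eq_of_le_of_card_ge le_normalizer (by rw [hTN, hTc])).symm
  -- Frattini argument in `N`
  haveI hHn : (H.subgroupOf N).Normal := normal_in_normalizer
  have hpp : ¬ p ∣ (p + 1) := fun h => by
    have := Nat.le_of_dvd one_pos ((Nat.dvd_add_right (dvd_refl p)).1 h)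
    omega
  have hTH : (zpowers y).subgroupOf N ≤ H.subgroupOf N := fun a ha => zpowers_le.2 hyH ha
  let S : Sylow p (H.subgroupOf N) := Sylow.ofCard (((zpowers y).subgroupOf N).subgroupOf (H.subgroupOf N)) (by
    rw [Nat.card_congr (subgroupOfEquivOfLe hTH).toEquiv,
      Nat.card_congr (subgroupOfEquivOfLe ((zpowers_le.2 hyH).trans le_normalizer)).toEquiv,
      Nat.card_zpowers, hy, Nat.card_congr (subgroupOfEquivOfLe (le_normalizer : H ≤ N)).toEquiv]
    have hdH := Subgroup.card_dvd_of_le hHM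
    rw [hcard] at hdH
    obtain ⟨c, hc⟩ := hpH
    have hcnd : ¬ p ∣ c := fun h => hpp (by
      rw [hc, mul_comm p c] at hdH
      exact h.trans (Nat.dvd_of_mul_dvd_mul_right hp.pos hdH))
    rw [hc, Nat.factorization_mul hp.ne_zero (fun e => hcnd (by rw [e]; exact dvd_zero p)),
      Finsupp.add_apply, hp.factorization_self,
      Nat.factorization_eq_zero_of_not_dvd hcnd, add_zero, pow_one])
  have hfr := Sylow.normalizer_sup_eq_top S
  have hSmap : (S : Subgroup (H.subgroupOf N)).map (H.subgroupOf N).subtype = (zpowers y).subgroupOf N := by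
    rw [Sylow.coe_ofCard, subgroupOf_map_subtype, inf_eq_left.2 hTH]
  rw [hSmap] at hfr
  intro x hx
  have hle : normalizer (((zpowers y).subgroupOf N : Subgroup N) : Set N) ≤ H.subgroupOf N := by
    intro a ha
    have haT : (⟨a, hNM a.2⟩ : M) ∈ normalizer (T : Set M) := by
      rw [mem_normalizer_iff]
      intro b
      have key : ∀ c ∈ N, a.1 * c * a.1⁻¹ ∈ N := fun c hc => mul_mem (mul_mem a.2 hc) (inv_mem a.2)
      constructor
      · intro hb
        have hbN : (b : PG) ∈ N := (zpowers_le.2 hyH).trans le_normalizer hb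
        exact (mem_normalizer_iff.1 ha ⟨b, hbN⟩).1 hb
      · intro hb
        have hbN : (b : PG) ∈ N := by
          have h1 : (a : PG) * b * (a : PG)⁻¹ ∈ N := (zpowers_le.2 hyH).trans le_normalizer hb
          have := mul_mem (mul_mem (inv_mem a.2) h1) a.2
          simpa [mul_assoc] using this
        exact (mem_normalizer_iff.1 ha ⟨b, hbN⟩).2 hb
    rw [hTeq] at haT
    exact zpowers_le.2 hyH haT
  have := (sup_le hle le_rfl : _ ≤ H.subgroupOf N) (hfr.ge (mem_top ⟨x, hx⟩))
  exact this

end Converse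

end Cfsg.Agent.NonabSelfNorm
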